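import Cfsg.Agent.H34.PDeg2
import Cfsg.Agent.JY.Eppo
import Cfsg.Agent.ClassBase.SimpleSmall
import Cfsg.Agent.H79.ProdChar
import Cfsg.Agent.H53.D3Base

/-! # S3668, piece N360c -/

set_option autoImplicit false
set_option linter.all false

namespace Cfsg.Agent.H18N.N360c

open Cfsg Subgroup

universe u

theorem central_bound {G : Type*} [Group G] [Finite G] (R : Subgroup G) (hR : R ≤ center G) (χ : IrrCharacter G) :
    Nat.card R * charDegree (χ : G → ℂ) ^ 2 ≤ Nat.card G := by
  classical
  haveI := Fintype.ofFinite G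
  have h1 := Cfsg.Agent.H79.sum_norm_sq χ
  have h2 : ∑ g ∈ (Finset.univ.filter (fun g : G => g ∈ R)), ‖(χ : G → ℂ) g‖ ^ 2 ≤
      ∑ g : G, ‖(χ : G → ℂ) g‖ ^ 2 :=
    Finset.sum_le_sum_of_subset_of_nonneg (Finset.subset_univ _) (fun g _ _ => by positivity)
  have h3 : ∑ g ∈ (Finset.univ.filter (fun g : G => g ∈ R)), ‖(χ : G → ℂ) g‖ ^ 2 =
      (Nat.card R : ℝ) * (charDegree (χ : G → ℂ) : ℝ) ^ 2 := by
    rw [Finset.sum_congr rfl (g := fun _ => (charDegree (χ : G → ℂ) : ℝ) ^ 2) (fun g hg => by
      rw [Cfsg.Agent.H79.irr_central_norm χ (hR (Finset.mem_filter.1 hg).2)]), Finset.sum_const, nsmul_eq_mul]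
    congr 1
    rw [Nat.card_eq_fintype_card, Fintype.card_subtype]
  rw [h3, h1] at h2
  exact_mod_cast h2

theorem three_mem {C : Type u} [Group C] [Finite C] [IsSimpleGroup C] (hC : Nat.card C = 60) :
    (3 : ℕ) ∈ charDegrees C := by
  classical
  obtain ⟨e1⟩ := Cfsg.Agent.ClassBase.simple_sixty hC
  obtain ⟨F, iF, iFF, hF, ⟨e2⟩⟩ := Cfsg.Agent.JY.alt_five_psl
  have h2 : (2 : F) = 0 := by
    have h3 : ((4 : ℕ) : F) = 0 := by rw [← hF]; exact FiniteField.cast_card_eq_zero F
    have h4 : (2 : F) * 2 = 0 := by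
      have : (2 : F) * 2 = ((4 : ℕ) : F) := by norm_num
      rw [this, h3]
    rcases mul_eq_zero.1 h4 with h5 | h5 <;> exact h5
  have h5 := (Cfsg.Agent.H34.Deg.graph_data_group (F := F) (S := C) (Or.inl ⟨e1.trans e2⟩)
    (Cfsg.Agent.H34.Deg.graph_data_even h2 (by rw [hF]))).2 3 (by rw [hF]; norm_num)
  exact h5

theorem two_mem {R : Type u} [Group R] [Finite R] (hR : Nat.card R = 6) (hna : ¬ ∀ a b : R, a * b = b * a) :
    (2 : ℕ) ∈ charDegrees R := by
  obtain ⟨χ, hχ⟩ := Cfsg.Agent.H53.D3.exists_nonlinear hna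
  have h1 := central_bound (⊥ : Subgroup R) bot_le χ
  have h2 := Cfsg.Agent.BlkC.charDegree_dvd_card χ
  have h3 : charDegree (χ : R → ℂ) ≠ 1 := by
    rw [Cfsg.Agent.H75.charDegree_eq_deg]; exact hχ
  rw [Subgroup.card_bot, one_mul, hR] at h1
  rw [hR] at h2
  refine ⟨χ, ?_⟩
  obtain ⟨d, hd⟩ : ∃ d, d = charDegree (χ : R → ℂ) := ⟨_, rfl⟩
  rw [← hd] at h1 h2 h3 ⊢
  have h4 : d ≤ 2 := by
    by_contra hcon
    push Not at hcon
    nlinarith
  interval_cases d
  · simp at h2
  · exact absurd rfl h3
  · rfl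

theorem eq_or_top {G : Type*} [Group G] (R : Subgroup G) [R.Normal] (hs : IsSimpleGroup (G ⧸ R)) (M : Subgroup G)
    [hM : M.Normal] (h : R ≤ M) : M = R ∨ M = ⊤ := by
  have h1 : (M.map (QuotientGroup.mk' R)).Normal := Subgroup.Normal.map hM _ (QuotientGroup.mk'_surjective R)
  have h2 : (M.map (QuotientGroup.mk' R)).comap (QuotientGroup.mk' R) = M := by
    rw [Subgroup.comap_map_eq, QuotientGroup.ker_mk', sup_eq_left]
    exact h
  rcases hs.eq_bot_or_eq_top_of_normal _ h1 with h3 | h3
  · left
    rw [← h2, h3, MonoidHom.comap_bot, QuotientGroup.ker_mk']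
  · right
    rw [← h2, h3, Subgroup.comap_top]

theorem n360c {G : Type*} [Group G] [Finite G] (hcard : Nat.card G = 360) (R : Subgroup G) [R.Normal]
    (hR : Nat.card R = 6) (hs : IsSimpleGroup (G ⧸ R)) (hna : ¬ IsMulCommutative (G ⧸ R))
    (h6 : ∀ d ∈ Cfsg.charDegrees G, ¬ 6 ∣ d) (h10 : ∃ d ∈ Cfsg.charDegrees G, 10 ∣ d) : False := by
  classical
  obtain ⟨C, hC⟩ : ∃ C : Subgroup G, C = centralizer (R : Set G) := ⟨_, rfl⟩
  haveI hCn : C.Normal := by rw [hC]; infer_instance
  have hCmem : ∀ g : G, g ∈ C ↔ MulAut.conjNormal (H := R) g = 1 := by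
    intro g
    rw [hC, mem_centralizer_iff]
    constructor
    · intro h
      ext r
      rw [MulAut.conjNormal_apply, ← h r r.2]
      simp
    · intro h r hr
      have h1 := congrArg (fun φ : MulAut R => ((φ ⟨r, hr⟩ : R) : G)) h
      simp only [MulAut.conjNormal_apply, MulAut.one_apply] at h1
      calc r * g = (g * r * g⁻¹) * g := by rw [h1]
        _ = g * r := by group
  -- `R ≤ center G` is impossible
  have hncen : ¬ R ≤ center G := by
    intro hcen
    obtain ⟨d, ⟨χ, rfl⟩, h10d⟩ := h10
    have h1 := central_bound R hcen χ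
    rw [hR, hcard] at h1
    have h2 : charDegree (χ : G → ℂ) ≠ 0 := by
      intro h0
      have := Cfsg.Agent.BlkC.charDegree_dvd_card χ
      rw [h0, hcard] at this
      simp at this
    have h3 := Nat.le_of_dvd (Nat.pos_of_ne_zero h2) h10d
    nlinarith
  by_cases hab : ∀ a b : R, a * b = b * a
  · -- `R` commutative: cyclic
    have hRC : R ≤ C := by
      intro r hr
      rw [hC, mem_centralizer_iff]
      intro s hs'
      exact congrArg Subtype.val (hab ⟨s, hs'⟩ ⟨r, hr⟩)
    rcases eq_or_top R hs C hRC with h1 | h1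
    · apply hna
      -- `MulAut R` is commutative
      haveI : Fact (Nat.Prime 2) := ⟨Nat.prime_two⟩
      haveI : Fact (Nat.Prime 3) := ⟨Nat.prime_three⟩
      obtain ⟨x, hx⟩ := exists_prime_orderOf_dvd_card' (G := R) 2 (by rw [hR]; norm_num)
      obtain ⟨y, hy⟩ := exists_prime_orderOf_dvd_card' (G := R) 3 (by rw [hR]; norm_num)
      have hxy : orderOf (x * y) = 6 := by
        rw [(show Commute x y from hab x y).orderOf_mul_eq_mul_orderOf_of_coprime (by rw [hx, hy]; norm_num), hx, hy]
      haveI hcyc : IsCyclic R := isCyclic_of_orderOf_eq_card (x * y) (by rw [hxy, hR])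
      have hcommA : ∀ φ ψ : MulAut R, φ * ψ = ψ * φ := by
        intro φ ψ
        apply (IsCyclic.mulAutMulEquiv R).injective
        rw [map_mul, map_mul, mul_comm]
      refine ⟨⟨fun a b => ?_⟩⟩
      obtain ⟨g, rfl⟩ := QuotientGroup.mk'_surjective R a
      obtain ⟨k, rfl⟩ := QuotientGroup.mk'_surjective R b
      rw [← map_mul, ← map_mul]
      show ((g * k : G) : G ⧸ R) = ((k * g : G) : G ⧸ R)
      rw [QuotientGroup.eq, ← h1, hCmem, map_mul, map_inv, map_mul, map_mul,
        hcommA (MulAut.conjNormal g) (MulAut.conjNormal k)]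
      group
    · exact hncen (fun r hr => by
        rw [mem_center_iff]
        intro g
        have h2 : g ∈ C := by rw [h1]; exact mem_top g
        rw [hC, mem_centralizer_iff] at h2
        exact (h2 r hr).symm)
  · -- `R` nonabelian
    have hZ : ∀ z : R, (∀ a : R, z * a = a * z) → z = 1 := by
      by_contra hcon
      push Not at hcon
      obtain ⟨z, hz, hz1⟩ := hcon
      apply hab
      have hzc : z ∈ center R := mem_center_iff.2 (fun a => (hz a).symm)
      have h1 : Nat.card (center R) ≠ 1 := by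
        intro h
        rw [Subgroup.card_eq_one.1 h] at hzc
        exact hz1 (mem_bot.1 hzc)
      have h2 : Nat.card (center R) * (center R).index = 6 := by rw [Subgroup.card_mul_index, hR]
      have h3 : (center R).index = 1 ∨ (center R).index.Prime := by
        have h4 : Nat.card (center R) ∣ 6 := ⟨_, h2.symm⟩
        have h5 : Nat.card (center R) ≤ 6 := Nat.le_of_dvd (by norm_num) h4
        obtain ⟨c, hc⟩ : ∃ c, c = Nat.card (center R) := ⟨_, rfl⟩
        rw [← hc] at h1 h2 h4 h5
        interval_cases c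
        · omega
        · exact absurd rfl h1
        · right; have : (center R).index = 3 := by omega
          rw [this]; norm_num
        · right; have : (center R).index = 2 := by omega
          rw [this]; norm_num
        · exfalso; omega
        · exfalso; omega
        · left; omega
      haveI : IsCyclic (R ⧸ center R) := by
        rcases h3 with h3 | h3
        · have : Subsingleton (R ⧸ center R) := (Nat.card_eq_one_iff_unique.1 h3).1
          infer_instance
        · haveI : Fact (Nat.Prime (center R).index) := ⟨h3⟩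
          exact isCyclic_of_prime_card (p := (center R).index) rfl
      intro a b
      exact commutative_of_cyclic_center_quotient (QuotientGroup.mk' (center R)) (by
        rw [QuotientGroup.ker_mk']) a b
    have hCR : C ⊓ R = ⊥ := by
      rw [eq_bot_iff]
      rintro z ⟨hzC, hzR⟩
      rw [mem_bot]
      have hzC' : z ∈ C := hzC
      rw [hC, mem_centralizer_iff] at hzC'
      have h1 := hZ ⟨z, hzR⟩ (fun a => Subtype.ext (hzC' a a.2).symm)
      exact congrArg Subtype.val h1
    haveI hsupn : (C ⊔ R).Normal := inferInstance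
    rcases eq_or_top R hs (C ⊔ R) le_sup_right with h1 | h1
    · -- `C = 1`
      have hC1 : C = ⊥ := by
        have h2 : C ≤ R := by rw [← h1]; exact le_sup_left
        rw [← inf_eq_left.2 h2, hCR]
      let f : G → Equiv.Perm {x : R // x ≠ 1} := fun g =>
        (MulAut.conjNormal (H := R) g).toEquiv.subtypeEquiv (fun x => by
          show x ≠ 1 ↔ (MulAut.conjNormal (H := R) g) x ≠ 1
          rw [Ne, Ne, EmbeddingLike.map_eq_one_iff])
      have hf : Function.Injective f := by
        intro g k hgk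
        have h2 : MulAut.conjNormal (H := R) g = MulAut.conjNormal (H := R) k := by
          ext x
          by_cases hx : x = 1
          · rw [hx, map_one, map_one]
          · have h3 := congrArg (fun φ : Equiv.Perm {x : R // x ≠ 1} => ((φ ⟨x, hx⟩ : {x : R // x ≠ 1}) : R)) hgk
            exact congrArg Subtype.val h3
        have h3 : g⁻¹ * k ∈ C := by
          rw [hCmem, map_mul, map_inv, h2, inv_mul_cancel]
        rw [hC1, mem_bot] at h3
        exact (inv_mul_eq_one.1 h3)
      have h2 := Nat.card_le_card_of_injective f hf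
      haveI := Fintype.ofFinite R
      rw [Nat.card_perm, hcard] at h2
      have h3 : Nat.card {x : R // x ≠ 1} = 5 := by
        rw [Nat.card_eq_fintype_card, Fintype.card_subtype_compl, Fintype.card_subtype_eq,
          ← Nat.card_eq_fintype_card, hR]
      rw [h3] at h2
      norm_num [Nat.factorial] at h2
    · -- direct product
      have hcomm : ∀ (c : C) (r : R), Commute (C.subtype c) (R.subtype r) := by
        intro c r
        have h2 : ∀ c ∈ C, ∀ r ∈ R, r * c = c * r := by
          intro c hc r hr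
          rw [hC, mem_centralizer_iff] at hc
          exact hc r hr
        exact (h2 c c.2 r r.2).symm
      let P : C × R →* G := MonoidHom.noncommCoprod C.subtype R.subtype hcomm
      have hPa : ∀ x, P x = (x.1 : G) * (x.2 : G) := fun x => rfl
      have hPinj : Function.Injective P := by
        rw [injective_iff_map_eq_one]
        rintro ⟨c, r⟩ h2
        rw [hPa] at h2
        have h3 : (c : G) = (r : G)⁻¹ := eq_inv_of_mul_eq_one_left h2
        have h4 : (c : G) ∈ C ⊓ R := ⟨c.2, by rw [h3]; exact R.inv_mem r.2⟩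
        rw [hCR, mem_bot] at h4
        rw [h4] at h3
        have h5 : (r : G) = 1 := inv_eq_one.1 h3.symm
        exact Prod.ext (Subtype.ext h4) (Subtype.ext h5)
      have hPsurj : Function.Surjective P := by
        intro g
        have h2 : g ∈ C ⊔ R := by rw [h1]; exact mem_top g
        rw [Subgroup.mem_sup_of_normal_left] at h2
        obtain ⟨c, hc, r, hr, h3⟩ := h2
        exact ⟨(⟨c, hc⟩, ⟨r, hr⟩), h3⟩
      let e : C × R ≃* G := MulEquiv.ofBijective P ⟨hPinj, hPsurj⟩
      have hcC : Nat.card C = 60 := by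
        have h2 : Nat.card (C × R) = 360 := by rw [← hcard]; exact Nat.card_congr e.toEquiv
        rw [Nat.card_prod, hR] at h2
        omega
      have hqinj : Function.Injective ((QuotientGroup.mk' R).comp C.subtype) := by
        rw [injective_iff_map_eq_one]
        intro c h2
        have h3 : (c : G) ∈ R := (QuotientGroup.eq_one_iff _).1 h2
        have h4 : (c : G) ∈ C ⊓ R := ⟨c.2, h3⟩
        rw [hCR, mem_bot] at h4
        exact Subtype.ext h4
      have hqsurj : Function.Surjective ((QuotientGroup.mk' R).comp C.subtype) := by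
        intro q
        obtain ⟨g, rfl⟩ := QuotientGroup.mk'_surjective R q
        obtain ⟨⟨c, r⟩, h3⟩ := hPsurj g
        refine ⟨c, ?_⟩
        rw [← h3]
        show ((c : G) : G ⧸ R) = (((c : G) * (r : G) : G) : G ⧸ R)
        rw [QuotientGroup.eq, inv_mul_cancel_left]
        exact r.2
      let e' : C ≃* G ⧸ R := MulEquiv.ofBijective _ ⟨hqinj, hqsurj⟩
      haveI hCs : IsSimpleGroup C := e'.isSimpleGroup
      obtain ⟨θ, hθ⟩ := three_mem hcC
      obtain ⟨β, hβ⟩ := two_mem hR hab
      apply h6 6 ?_ (dvd_refl 6)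
      rw [← Cfsg.Agent.H34.Deg.charDegrees_equiv e]
      refine ⟨Cfsg.Agent.H79.irrProd θ β, ?_⟩
      have h7 : ((charDegree (Cfsg.Agent.H79.irrProd θ β : C × R → ℂ) : ℕ) : ℂ) = ((6 : ℕ) : ℂ) := by
        rw [← Cfsg.Agent.H79.irr_one, Cfsg.Agent.H79.irrProd_apply]
        show (θ : C → ℂ) 1 * (β : R → ℂ) 1 = _
        rw [Cfsg.Agent.H79.irr_one, Cfsg.Agent.H79.irr_one, hθ, hβ]
        norm_num
      exact_mod_cast h7

end Cfsg.Agent.H18N.N360c
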